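import Mathlib

set_option autoImplicit false

namespace Cfsg.Agent.H32

/-- A nontrivial normal subgroup of a finite `p`-group meets the centre nontrivially. -/
theorem exists_mem_center_of_normal {G : Type*} [Group G] [Finite G] {p : ℕ} [Fact p.Prime]
    (hG : IsPGroup p G) (N : Subgroup G) [N.Normal] (hN : N ≠ ⊥) :
    ∃ x ∈ N, x ≠ 1 ∧ x ∈ Subgroup.center G := by
  classical
  have hG' : IsPGroup p (ConjAct G) := hG
  have hNp : IsPGroup p N := hG.to_subgroup N
  have hcard : p ∣ Nat.card N := by
    rcases hNp.card_eq_or_dvd with h | h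
    · exfalso
      apply hN
      exact Subgroup.card_eq_one.mp h
    · exact h
  have h1 : (1 : N) ∈ MulAction.fixedPoints (ConjAct G) N := by
    intro g
    exact smul_one g
  obtain ⟨b, hb, hb1⟩ := hG'.exists_fixed_point_of_prime_dvd_card_of_fixed_point N hcard h1
  refine ⟨b, b.2, ?_, ?_⟩
  · intro h
    apply hb1
    exact Subtype.ext h.symm
  · rw [Subgroup.mem_center_iff]
    intro g
    have := hb (ConjAct.toConjAct g)
    have h2 := congrArg Subtype.val this
    rw [ConjAct.Subgroup.val_conj_smul, ConjAct.toConjAct_smul] at h2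
    rw [mul_inv_eq_iff_eq_mul] at h2
    exact h2

end Cfsg.Agent.H32
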